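import Groth.Agent.RelSpecUP.Basic
import Groth.Agent.S8268
import Groth.Agent.QC.Sections
/-!
# A symmetric algebra is generated by its module over every affine open
-/

universe u

open CategoryTheory CategoryTheory.Limits AlgebraicGeometry TopologicalSpace Opposite

set_option backward.isDefEq.respectTransparency false

noncomputable section

namespace Groth.Agent.SymAlgGen

open RelSpec

variable {S : Scheme.{u}} {E : S.Modules} {A : QCAlg S} (j : E ⟶ A.toModule)

/-- Restriction in the algebra. -/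
abbrev aRes (A : QCAlg S) {V U : S.Opens} (h : V ≤ U) :
    A.presheaf.obj (op U) →+* A.presheaf.obj (op V) :=
  (A.presheaf.map (homOfLE h).op).hom

/-- The structure map on sections. -/
abbrev strS (A : QCAlg S) (U : S.Opens) : Γ(S, U) →+* A.presheaf.obj (op U) :=
  (A.str.app (op U)).hom

/-- The image of a section of the module in the algebra. -/
def jsec (U : S.Opens) (e : Γ(E, U)) : A.presheaf.obj (op U) := j.app U e

lemma aRes_jsec {V U : S.Opens} (h : V ≤ U) (e : Γ(E, U)) :
    aRes A h (jsec j U e) = jsec j V (QC.res E h e) :=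
  QC.app_res j h e

lemma aRes_strS {V U : S.Opens} (h : V ≤ U) (r : Γ(S, U)) :
    aRes A h (strS A U r) = strS A V (QC.resO S h r) :=
  (congr($(A.str.naturality (homOfLE h).op) r)).symm

lemma aRes_aRes {W V U : S.Opens} (h : W ≤ V) (h' : V ≤ U) (a : A.presheaf.obj (op U)) :
    aRes A h (aRes A h' a) = aRes A (h.trans h') a := by
  simp only [aRes, ← CommRingCat.comp_apply, ← Functor.map_comp]
  rfl

lemma aRes_self {U : S.Opens} (h : U ≤ U) (a : A.presheaf.obj (op U)) : aRes A h a = a := by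
  have : (homOfLE h).op = 𝟙 (op U) := rfl
  simp [aRes]

lemma jsec_smul (U : S.Opens) (r : Γ(S, U)) (e : Γ(E, U)) :
    jsec j U (r • e) = strS A U r * jsec j U e :=
  Scheme.Modules.Hom.app_smul j r e

/-- The subring generated by functions and the module over an open. -/
def gen (U : S.Opens) : Subring (A.presheaf.obj (op U)) :=
  Subring.closure (Set.range (strS A U) ∪ Set.range (jsec j U))

lemma strS_mem_gen (U : S.Opens) (r : Γ(S, U)) : strS A U r ∈ gen j U :=
  Subring.subset_closure (Or.inl ⟨r, rfl⟩)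

lemma jsec_mem_gen (U : S.Opens) (e : Γ(E, U)) : jsec j U e ∈ gen j U :=
  Subring.subset_closure (Or.inr ⟨e, rfl⟩)

lemma aRes_mem_gen {V U : S.Opens} (h : V ≤ U) {a : A.presheaf.obj (op U)} (ha : a ∈ gen j U) :
    aRes A h a ∈ gen j V := by
  suffices gen j U ≤ (gen j V).comap (aRes A h) from this ha
  refine Subring.closure_le.2 ?_
  rintro _ (⟨r, rfl⟩ | ⟨e, rfl⟩)
  · change aRes A h _ ∈ gen j V
    rw [aRes_strS]; exact strS_mem_gen j V _
  · change aRes A h _ ∈ gen j V
    rw [aRes_jsec]; exact jsec_mem_gen j V _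

variable [E.IsQuasicoherent]

lemma exists_of_mem_gen_basicOpen {U : S.Opens} (hU : IsAffineOpen U) (r : Γ(S, U))
    {y : A.presheaf.obj (op (S.basicOpen r))} (hy : y ∈ gen j (S.basicOpen r)) :
    ∃ (n : ℕ) (a : A.presheaf.obj (op U)), a ∈ gen j U ∧
      aRes A (S.basicOpen_le r) a = aRes A (S.basicOpen_le r) (strS A U r) ^ n * y := by
  set t := aRes A (S.basicOpen_le r) (strS A U r)
  induction hy using Subring.closure_induction with
  | mem y hy =>
    rcases hy with ⟨c, rfl⟩ | ⟨e, rfl⟩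
    · haveI := hU.isLocalization_basicOpen r
      obtain ⟨n, a, ha⟩ := IsLocalization.Away.surj r c
      refine ⟨n, strS A U a, strS_mem_gen j U a, ?_⟩
      simp only [t, aRes_strS, ← map_pow, ← map_mul]
      congr 1
      rw [mul_comm, map_pow]
      exact ha.symm
    · obtain ⟨n, s, hs⟩ := (QC.isLoc_of_isQCoh hU (M := E)).exists_extend r e
      refine ⟨n, jsec j U s, jsec_mem_gen j U s, ?_⟩
      rw [aRes_jsec, hs, jsec_smul, map_pow]
      simp only [t, aRes_strS]
  | zero => exact ⟨0, 0, zero_mem _, by simp⟩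
  | one => exact ⟨0, 1, one_mem _, by simp⟩
  | add x y _ _ hx hy =>
    obtain ⟨n, a, ha, ea⟩ := hx
    obtain ⟨m, b, hb, eb⟩ := hy
    refine ⟨n + m, strS A U r ^ m * a + strS A U r ^ n * b,
      add_mem (mul_mem (pow_mem (strS_mem_gen j U r) m) ha) (mul_mem (pow_mem (strS_mem_gen j U r) n) hb), ?_⟩
    rw [map_add, map_mul, map_mul, map_pow, map_pow, ea, eb]
    change t ^ m * (t ^ n * x) + t ^ n * (t ^ m * y) = _
    ring
  | neg x _ hx =>
    obtain ⟨n, a, ha, ea⟩ := hx
    exact ⟨n, -a, neg_mem ha, by rw [map_neg, ea]; ring⟩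
  | mul x y _ _ hx hy =>
    obtain ⟨n, a, ha, ea⟩ := hx
    obtain ⟨m, b, hb, eb⟩ := hy
    exact ⟨n + m, a * b, mul_mem ha hb, by rw [map_mul, ea, eb]; ring⟩

lemma mem_gen_of_local {U : S.Opens} (hU : IsAffineOpen U) (a : A.presheaf.obj (op U))
    (h : ∀ x ∈ U, ∃ r : Γ(S, U), x ∈ S.basicOpen r ∧
      aRes A (S.basicOpen_le r) a ∈ gen j (S.basicOpen r)) : a ∈ gen j U := by
  let I : Ideal Γ(S, U) :=
    { carrier := {s | strS A U s * a ∈ gen j U}
      add_mem' := fun {x y} hx hy => by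
        change strS A U (x + y) * a ∈ gen j U
        rw [map_add, add_mul]; exact add_mem hx hy
      zero_mem' := by
        change strS A U 0 * a ∈ gen j U
        rw [map_zero, zero_mul]; exact zero_mem _
      smul_mem' := fun c x hx => by
        change strS A U (c * x) * a ∈ gen j U
        rw [map_mul, mul_assoc]; exact mul_mem (strS_mem_gen j U c) hx }
  suffices I = ⊤ by
    have h1 : strS A U 1 * a ∈ gen j U := (Ideal.eq_top_iff_one I).1 this
    rwa [map_one, one_mul] at h1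
  by_contra hI
  obtain ⟨p, hp, hle⟩ := Ideal.exists_le_maximal I hI
  let z : PrimeSpectrum Γ(S, U) := ⟨p, hp.isPrime⟩
  have hz : hU.fromSpec z ∈ U := hU.range_fromSpec.le ⟨z, rfl⟩
  obtain ⟨r, hr, hra⟩ := h _ hz
  have hrp : r ∉ p := by
    have : z ∈ hU.fromSpec ⁻¹ᵁ (S.basicOpen r) := hr
    rw [hU.fromSpec_preimage_basicOpen] at this
    exact this
  obtain ⟨n, b, hb, eb⟩ := exists_of_mem_gen_basicOpen j hU r hra
  letI := (A.presheaf.map (homOfLE (S.basicOpen_le r)).op).hom.toAlgebra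
  haveI := A.isQC U hU r
  have h1 : aRes A (S.basicOpen_le r) (strS A U r ^ n * a) = aRes A (S.basicOpen_le r) b := by
    rw [eb, map_mul, map_pow]
  obtain ⟨⟨_, m, rfl⟩, hm⟩ := IsLocalization.exists_of_eq (M := Submonoid.powers (strS A U r)) h1
  have h2 : r ^ (m + n) ∈ I := by
    change strS A U (r ^ (m + n)) * a ∈ gen j U
    rw [map_pow, pow_add, mul_assoc]
    simp only at hm
    rw [hm]
    exact mul_mem (pow_mem (strS_mem_gen j U r) m) hb
  exact hrp (hp.isPrime.mem_of_pow_mem _ (hle h2))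

/-- Sections lying locally in the generated subring. -/
def loc (V : S.Opens) : Subring (A.presheaf.obj (op V)) where
  carrier := {a | ∀ x ∈ V, ∃ (W : S.Opens) (hW : W ≤ V), IsAffineOpen W ∧ x ∈ W ∧ aRes A hW a ∈ gen j W}
  mul_mem' := fun {a b} ha hb x hx => by
    obtain ⟨W₁, h₁, -, hx₁, ha⟩ := ha x hx
    obtain ⟨W₂, h₂, -, hx₂, hb⟩ := hb x hx
    obtain ⟨W, hW, hxW, hle⟩ := exists_isAffineOpen_mem_and_subset (U := W₁ ⊓ W₂) (x := x) ⟨hx₁, hx₂⟩
    have e₁ : W ≤ W₁ := fun y hy => (hle hy).1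
    have e₂ : W ≤ W₂ := fun y hy => (hle hy).2
    refine ⟨W, e₁.trans h₁, hW, hxW, ?_⟩
    rw [map_mul]
    refine mul_mem ?_ ?_
    · rw [← aRes_aRes e₁ h₁]; exact aRes_mem_gen j e₁ ha
    · rw [show aRes A (e₁.trans h₁) b = aRes A e₂ (aRes A h₂ b) from (aRes_aRes e₂ h₂ b).symm]
      exact aRes_mem_gen j e₂ hb
  one_mem' := fun x hx => by
    obtain ⟨W, hW, hxW, hle⟩ := exists_isAffineOpen_mem_and_subset (U := V) (x := x) hx
    exact ⟨W, hle, hW, hxW, by rw [map_one]; exact one_mem _⟩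
  add_mem' := fun {a b} ha hb x hx => by
    obtain ⟨W₁, h₁, -, hx₁, ha⟩ := ha x hx
    obtain ⟨W₂, h₂, -, hx₂, hb⟩ := hb x hx
    obtain ⟨W, hW, hxW, hle⟩ := exists_isAffineOpen_mem_and_subset (U := W₁ ⊓ W₂) (x := x) ⟨hx₁, hx₂⟩
    have e₁ : W ≤ W₁ := fun y hy => (hle hy).1
    have e₂ : W ≤ W₂ := fun y hy => (hle hy).2
    refine ⟨W, e₁.trans h₁, hW, hxW, ?_⟩
    rw [map_add]
    refine add_mem ?_ ?_
    · rw [← aRes_aRes e₁ h₁]; exact aRes_mem_gen j e₁ ha
    · rw [show aRes A (e₁.trans h₁) b = aRes A e₂ (aRes A h₂ b) from (aRes_aRes e₂ h₂ b).symm]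
      exact aRes_mem_gen j e₂ hb
  zero_mem' := fun x hx => by
    obtain ⟨W, hW, hxW, hle⟩ := exists_isAffineOpen_mem_and_subset (U := V) (x := x) hx
    exact ⟨W, hle, hW, hxW, by rw [map_zero]; exact zero_mem _⟩
  neg_mem' := fun {a} ha x hx => by
    obtain ⟨W, hW, hWa, hxW, ha⟩ := ha x hx
    exact ⟨W, hW, hWa, hxW, by rw [map_neg]; exact neg_mem ha⟩

lemma aRes_mem_loc {V U : S.Opens} (h : V ≤ U) {a : A.presheaf.obj (op U)} (ha : a ∈ loc j U) :
    aRes A h a ∈ loc j V := by
  intro x hx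
  obtain ⟨W₁, h₁, -, hx₁, ha⟩ := ha x (h hx)
  obtain ⟨W, hW, hxW, hle⟩ := exists_isAffineOpen_mem_and_subset (U := V ⊓ W₁) (x := x) ⟨hx, hx₁⟩
  have e₁ : W ≤ W₁ := fun y hy => (hle hy).2
  have e₀ : W ≤ V := fun y hy => (hle hy).1
  refine ⟨W, e₀, hW, hxW, ?_⟩
  rw [aRes_aRes, show aRes A (e₀.trans h) a = aRes A e₁ (aRes A h₁ a) from (aRes_aRes e₁ h₁ a).symm]
  exact aRes_mem_gen j e₁ ha

lemma loc_eq_gen {U : S.Opens} (hU : IsAffineOpen U) : loc j U = gen j U := by
  ext a
  constructor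
  · intro ha
    refine mem_gen_of_local j hU a fun x hx => ?_
    obtain ⟨W, hW, -, hxW, haW⟩ := ha x hx
    obtain ⟨r, hr, hxr⟩ := hU.exists_basicOpen_le (⟨x, hxW⟩ : W) hx
    refine ⟨r, hxr, ?_⟩
    rw [← aRes_aRes hr hW]
    exact aRes_mem_gen j hr haW
  · intro ha x hx
    exact ⟨U, le_rfl, hU, hx, by rw [aRes_self]; exact ha⟩

/-- The presheaf of sections lying locally in the generated subrings. -/
def locPresheaf : TopCat.Presheaf CommRingCat.{u} S.carrier where
  obj V := CommRingCat.of (loc j V.unop)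
  map {V W} i := CommRingCat.ofHom ((((A.presheaf.map i).hom).comp (loc j V.unop).subtype).codRestrict
    (loc j W.unop) fun a => aRes_mem_loc j i.unop.le a.2)
  map_id V := by
    ext a
    change (A.presheaf.map (𝟙 V)) a.1 = a.1
    rw [CategoryTheory.Functor.map_id]; rfl
  map_comp f g := by
    ext a
    change (A.presheaf.map (f ≫ g)) a.1 = A.presheaf.map g (A.presheaf.map f a.1)
    rw [Functor.map_comp]; rfl

/-- The structure map of the generated algebra. -/
def locStr : S.presheaf ⟶ locPresheaf j where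
  app V := CommRingCat.ofHom ((A.str.app V).hom.codRestrict (loc j V.unop) fun r x hx => by
    obtain ⟨W, hW, hxW, hle⟩ := exists_isAffineOpen_mem_and_subset (U := V.unop) (x := x) hx
    refine ⟨W, hle, hW, hxW, ?_⟩
    change aRes A _ (strS A V.unop r) ∈ gen j W
    rw [aRes_strS]; exact strS_mem_gen j W _)
  naturality V W i := by
    ext r
    apply Subtype.ext
    exact congr($(A.str.naturality i) r)

lemma isSheaf_locPresheaf : TopCat.Presheaf.IsSheaf (locPresheaf j) := by
  rw [TopCat.Presheaf.isSheaf_iff_isSheafUniqueGluing]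
  intro ι U sf hsf
  obtain ⟨s, hs, hs'⟩ := TopCat.Sheaf.existsUnique_gluing (⟨A.presheaf, A.isSheaf⟩ : TopCat.Sheaf CommRingCat.{u} S.carrier)
    U (fun i => (sf i : loc j (U i)).1) (fun a b => congrArg Subtype.val (hsf a b))
  have hmem : s ∈ loc j (iSup U) := by
    intro x hx
    obtain ⟨i, hxi⟩ := Opens.mem_iSup.1 hx
    obtain ⟨W, hW, hWa, hxW, ha⟩ := (sf i : loc j (U i)).2 x hxi
    refine ⟨W, hW.trans (le_iSup U i), hWa, hxW, ?_⟩
    have hsi : aRes A (le_iSup U i) s = (sf i : loc j (U i)).1 := hs i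
    rw [← aRes_aRes hW (le_iSup U i), hsi]
    exact ha
  exact ⟨⟨s, hmem⟩, fun i => Subtype.ext (hs i),
    fun t ht => Subtype.ext (hs' t.1 fun i => congrArg Subtype.val (ht i))⟩

lemma isQC_locPresheaf : IsQC (locPresheaf j) (locStr j) := by
  intro U hU r
  letI := (A.presheaf.map (homOfLE (S.basicOpen_le r)).op).hom.toAlgebra
  haveI := A.isQC U hU r
  letI alg := ((locPresheaf j).map (homOfLE (S.basicOpen_le r)).op).hom.toAlgebra
  refine ⟨?_, ?_, ?_⟩
  · rintro ⟨_, n, rfl⟩
    rw [map_pow]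
    refine IsUnit.pow n ?_
    have hu : IsUnit (QC.resO S (S.basicOpen_le r) r) := by
      haveI := hU.isLocalization_basicOpen r
      exact IsLocalization.Away.algebraMap_isUnit (S := Γ(S, S.basicOpen r)) r
    have h1 := hu.map (((locStr j).app (op (S.basicOpen r))).hom)
    have h2 : (algebraMap _ ((locPresheaf j).obj (op (S.basicOpen r)))) ((locStr j).app (op U) r) =
        ((locStr j).app (op (S.basicOpen r))).hom (QC.resO S (S.basicOpen_le r) r) :=
      (congr($((locStr j).naturality (homOfLE (S.basicOpen_le r)).op) r)).symm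
    exact h2 ▸ h1
  · intro z
    have hz : (z : loc j (S.basicOpen r)).1 ∈ gen j (S.basicOpen r) :=
      (loc_eq_gen j (hU.basicOpen r)).le (z : loc j (S.basicOpen r)).2
    obtain ⟨n, a, ha, ea⟩ := exists_of_mem_gen_basicOpen j hU r hz
    refine ⟨⟨(⟨a, (loc_eq_gen j hU).ge ha⟩ : loc j U), ⟨_, n, rfl⟩⟩, Subtype.ext ?_⟩
    change (z : loc j (S.basicOpen r)).1 * aRes A (S.basicOpen_le r) (strS A U r ^ n) =
      aRes A (S.basicOpen_le r) a
    rw [ea, map_pow, mul_comm]
  · intro x y hxy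
    obtain ⟨⟨_, m, rfl⟩, hm⟩ := IsLocalization.exists_of_eq (M := Submonoid.powers (strS A U r))
      (show aRes A (S.basicOpen_le r) (x : loc j U).1 = aRes A (S.basicOpen_le r) (y : loc j U).1 from
        congrArg Subtype.val hxy)
    exact ⟨⟨_, m, rfl⟩, Subtype.ext hm⟩

/-- The subalgebra generated by the module. -/
def subAlg : QCAlg S :=
  ⟨locPresheaf j, isSheaf_locPresheaf j, locStr j, isQC_locPresheaf j⟩

/-- Its inclusion. -/
def incl : subAlg j ⟶ A :=
  ⟨{ app := fun V => CommRingCat.ofHom (loc j V.unop).subtype, naturality := fun _ _ _ => rfl }, rfl⟩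

variable {j}

/-- Over an affine open a symmetric algebra is generated by functions and sections of the module. -/
theorem gen_eq_top (hA : IsSymAlg E A j) {U : S.Opens} (hU : IsAffineOpen U) : gen j U = ⊤ := by
  have hinj : ∀ V : S.Opens, Function.Injective ((incl j).hom.app (op V)) :=
    fun V a b h => Subtype.ext h
  haveI := Groth.Agent.S8268.mono_toModuleMap (incl j) hinj
  have hmem : ∀ (V : S.Opens) (e : Γ(E, V)), jsec j V e ∈ loc j V := fun V e x hx => by
    obtain ⟨W, hW, hxW, hle⟩ := exists_isAffineOpen_mem_and_subset (U := V) (x := x) hx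
    exact ⟨W, hle, hW, hxW, by rw [aRes_jsec]; exact jsec_mem_gen j W _⟩
  let j' : E ⟶ (subAlg j).toModule :=
    ⟨letI := (subAlg j).moduleSect
     PresheafOfModules.homMk
      { app := fun V => AddCommGrpCat.ofHom
          { toFun := fun e => (⟨jsec j V.unop e, hmem V.unop e⟩ : loc j V.unop)
            map_zero' := Subtype.ext (map_zero (j.app V.unop).hom)
            map_add' := fun a b => Subtype.ext (map_add (j.app V.unop).hom a b) }
        naturality := fun V W i => by
          ext e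
          apply Subtype.ext
          exact (aRes_jsec j i.unop.le e).symm }
      fun V r e => Subtype.ext (jsec_smul j V.unop r e)⟩
  have hj' : j' ≫ QCAlg.Hom.toModuleMap (incl j) = j := by
    apply Scheme.Modules.hom_ext
    intro V
    ext e
    rfl
  obtain ⟨ψ, hψ, -⟩ := hA (subAlg j) j'
  have h1 : ψ ≫ incl j = 𝟙 A := (hA A j).unique
    (by rw [Groth.Agent.S8268.toModuleMap_comp, ← Category.assoc, hψ, hj'])
    (by rw [Groth.Agent.S8268.toModuleMap_id, Category.comp_id])
  refine eq_top_iff.2 fun a _ => ?_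
  rw [← loc_eq_gen j hU]
  have h2 : ((ψ ≫ incl j).hom.app (op U)) a = a := by rw [h1]; rfl
  rw [← h2]
  exact ((ψ.hom.app (op U) a : loc j U)).2

end Groth.Agent.SymAlgGen
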